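import Mathlib
import Cfsg.Agent.Lib.Helper50.CAI.Defs

/-!
# Project CAI (S2202), package [INJ]
-/

set_option autoImplicit false

namespace Cfsg.Agent.Lib.Helper80.CAI

open Cfsg.Agent.Lib.Helper50.CAI

open scoped Pointwise

universe u

section

variable {G : Type u} [Group G]

theorem conj_mem_smul (x : G) (P : Sylow 2 G) {s : G} (hs : s ∈ (P : Subgroup G)) :
    x * s * x⁻¹ ∈ ((x • P : Sylow 2 G) : Subgroup G) := by
  have h0 := Subgroup.smul_mem_pointwise_smul _ (MulAut.conj x) _ hs
  rw [← Sylow.coe_subgroup_smul] at h0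
  simpa [MulAut.smul_def] using h0

theorem sq_eq_one_of_order_two {t : G} (ht : orderOf t = 2) : t * t = 1 := by
  have h := pow_orderOf_eq_one t
  rw [ht, pow_two] at h
  exact h

theorem ne_one_of_order_two {t : G} (ht : orderOf t = 2) : t ≠ 1 := by
  rintro rfl
  rw [orderOf_one] at ht
  omega

theorem order_two_of {u : G} (h1 : u * u = 1) (h2 : u ≠ 1) : orderOf u = 2 := by
  have : Fact (Nat.Prime 2) := ⟨Nat.prime_two⟩
  exact orderOf_eq_prime (by rw [pow_two]; exact h1) h2

theorem inv_of_order_two {t : G} (ht : orderOf t = 2) : t⁻¹ = t :=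
  inv_eq_of_mul_eq_one_right (sq_eq_one_of_order_two ht)

theorem mem_Dz_iff (P Q : Sylow 2 G) (x : G) : x ∈ Dz P Q ↔ x • P = P ∧ x • Q = Q := by
  unfold Dz
  rw [Subgroup.mem_inf, MulAction.mem_stabilizer_iff, MulAction.mem_stabilizer_iff]

/-- No involution fixes two different Sylow 2-subgroups. -/
theorem no_inv_Dz (P Q : Sylow 2 G) (bP : BasicFacts P) (bQ : BasicFacts Q) (hPQ : P ≠ Q) :
    ∀ z ∈ Dz P Q, orderOf z ≠ 2 := by
  intro z hz hz2
  obtain ⟨hzP, hzQ⟩ := (mem_Dz_iff P Q z).mp hz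
  have h2 : ∃ k : ℕ, z ^ (2 ^ k) = 1 :=
    ⟨1, by rw [pow_one, pow_two]; exact sq_eq_one_of_order_two hz2⟩
  have h3 := bP.fix2 z hzP h2
  have h4 := bQ.fix2 z hzQ h2
  exact ne_one_of_order_two hz2 (bP.ti Q hPQ.symm z h3 h4)

/-- The two-point stabilizer has only elements of odd order. -/
theorem odd_Dz [Finite G] (P Q : Sylow 2 G) (bP : BasicFacts P) (bQ : BasicFacts Q)
    (hPQ : P ≠ Q) : ∀ c ∈ Dz P Q, Odd (orderOf c) := by
  intro c hc
  rw [← Nat.not_even_iff_odd, even_iff_two_dvd]
  rintro ⟨k, hk⟩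
  have hpos : 0 < orderOf c := orderOf_pos c
  have hk0 : k ≠ 0 := by
    rintro rfl
    omega
  have h1 : c ^ k * c ^ k = 1 := by
    rw [← pow_add, ← two_mul, ← hk, pow_orderOf_eq_one]
  have h2 : c ^ k ≠ 1 := pow_ne_one_of_lt_orderOf hk0 (by omega)
  exact no_inv_Dz P Q bP bQ hPQ _ (Subgroup.pow_mem _ hc _) (order_two_of h1 h2)

end

/-- [INJ] -/
theorem pkgInj (hB : PkgBasic.{u}) : PkgInj.{u} := by
  intro G _ _ hyp hbti P Q hPQ t ht htP
  have bP := hB hyp P
  have bQ := hB hyp Q
  have htt : t * t = 1 := sq_eq_one_of_order_two ht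
  have htinv : t⁻¹ = t := inv_of_order_two ht
  have htQ : t • Q = P := by rw [← htP, ← mul_smul, htt, one_smul]
  have hodd := odd_Dz P Q bP bQ hPQ
  constructor
  · refine Nat.card_congr
      { toFun := fun u => ⟨t * u.1, ?_⟩
        invFun := fun x => ⟨t * x.1, ?_⟩
        left_inv := fun u => Subtype.ext ?_
        right_inv := fun x => Subtype.ext ?_ }
    · obtain ⟨u, hu2, huP⟩ := u
      have huu := sq_eq_one_of_order_two hu2
      have huinv := inv_of_order_two hu2
      have huQ : u • Q = P := by rw [← huP, ← mul_smul, huu, one_smul]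
      refine ⟨(mem_Dz_iff P Q _).mpr ⟨?_, ?_⟩, ?_⟩
      · show (t * u) • P = P
        rw [mul_smul, huP, htQ]
      · show (t * u) • Q = Q
        rw [mul_smul, huQ, htP]
      · show t * (t * u) * t = (t * u)⁻¹
        rw [mul_inv_rev, huinv, htinv, ← mul_assoc, htt, one_mul]
    · obtain ⟨x, hxD, hx⟩ := x
      obtain ⟨hxP, hxQ⟩ := (mem_Dz_iff P Q x).mp hxD
      refine ⟨order_two_of ?_ ?_, ?_⟩
      · calc t * x * (t * x) = (t * x * t) * x := by group
          _ = x⁻¹ * x := by rw [hx]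
          _ = 1 := inv_mul_cancel x
      · intro h
        have hx' : x = t := by
          have h' := eq_inv_of_mul_eq_one_right h
          rw [htinv] at h'
          exact h'
        rw [hx'] at hxP
        exact hPQ (hxP.symm.trans htP)
      · show (t * x) • P = Q
        rw [mul_smul, hxP, htP]
    · show t * (t * u.1) = u.1
      rw [← mul_assoc, htt, one_mul]
    · show t * (t * x.1) = x.1
      rw [← mul_assoc, htt, one_mul]
  · have hpos : 0 < mInv P := lt_of_lt_of_le (by norm_num) bP.three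
    obtain ⟨⟨s0, hs0P, hs02⟩⟩ : Nonempty {t : G // t ∈ (P : Subgroup G) ∧ orderOf t = 2} :=
      (Nat.card_pos_iff.mp hpos).1
    unfold mInv
    refine Nat.card_le_card_of_injective
      (fun x : {x : G // x ∈ Dz P Q ∧ t * x * t = x⁻¹} =>
        (⟨x.1 * s0 * x.1⁻¹, ?_, ?_⟩ : {t : G // t ∈ (P : Subgroup G) ∧ orderOf t = 2})) ?_
    · have h := conj_mem_smul x.1 P hs0P
      rw [((mem_Dz_iff P Q x.1).mp x.2.1).1] at h
      exact h
    · have h : x.1 * s0 * x.1⁻¹ = MulAut.conj x.1 s0 := by simp [MulAut.conj_apply]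
      rw [h, MulEquiv.orderOf_eq]
      exact hs02
    · rintro ⟨x, hxD, hx⟩ ⟨y, hyD, hy⟩ hxy
      have hxy' : x * s0 * x⁻¹ = y * s0 * y⁻¹ :=
        congrArg (fun q : {t : G // t ∈ (P : Subgroup G) ∧ orderOf t = 2} => q.1) hxy
      apply Subtype.ext
      show x = y
      obtain ⟨c, hc⟩ : ∃ c, c = x⁻¹ * y := ⟨_, rfl⟩
      have hcD : c ∈ Dz P Q := by
        rw [hc]; exact Subgroup.mul_mem _ (Subgroup.inv_mem _ hxD) hyD
      have hcs : c * s0 = s0 * c := by
        have h1 : c * s0 * c⁻¹ = s0 := by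
          rw [hc]
          calc x⁻¹ * y * s0 * (x⁻¹ * y)⁻¹ = x⁻¹ * (y * s0 * y⁻¹) * x := by group
            _ = x⁻¹ * (x * s0 * x⁻¹) * x := by rw [hxy']
            _ = s0 := by group
        calc c * s0 = c * s0 * c⁻¹ * c := by group
          _ = s0 * c := by rw [h1]
      have hcC : c ∈ Cz P := by
        rw [← bP.cent s0 hs0P hs02, Subgroup.mem_centralizer_singleton_iff]
        exact hcs
      have hcB : c ∈ Bz P := (bP.memB c).mpr ⟨hcC, hodd c hcD⟩
      have hy' : y = x * c := by rw [hc]; group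
      have htct : t * c * t = x * c⁻¹ * x⁻¹ := by
        have h1 : t * c * t = (t * x * t)⁻¹ * (t * y * t) := by
          have h2 : (t * x * t)⁻¹ = t * x⁻¹ * t := by
            rw [mul_inv_rev, mul_inv_rev, htinv, mul_assoc]
          rw [h2, hc]
          calc t * (x⁻¹ * y) * t = t * x⁻¹ * (1 * y) * t := by group
            _ = t * x⁻¹ * (t * t * y) * t := by rw [htt]
            _ = t * x⁻¹ * t * (t * y * t) := by group
        rw [h1, hx, hy, hy']
        group
      have h1 : x * c⁻¹ * x⁻¹ ∈ Bz P := by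
        have h := (bP.conjB x (x * c⁻¹ * x⁻¹)).mpr (by
          have e : x⁻¹ * (x * c⁻¹ * x⁻¹) * x = c⁻¹ := by group
          rw [e]
          exact Subgroup.inv_mem _ hcB)
        rw [((mem_Dz_iff P Q x).mp hxD).1] at h
        exact h
      have h2 : t * c * t ∈ Bz Q := by
        have h := (bP.conjB t (t * c * t)).mpr (by
          have e : t⁻¹ * (t * c * t) * t = c := by
            rw [htinv]
            calc t * (t * c * t) * t = (t * t) * c * (t * t) := by group
              _ = c := by rw [htt, one_mul, mul_one]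
          rw [e]
          exact hcB)
        rw [htP] at h
        exact h
      have h3 : t * c * t = 1 := hbti P Q hPQ _ (htct ▸ h1) h2
      have hc1 : c = 1 := by
        calc c = (t * t) * c * (t * t) := by rw [htt, one_mul, mul_one]
          _ = t * (t * c * t) * t := by group
          _ = 1 := by rw [h3, mul_one, htt]
      rw [hy', hc1, mul_one]

end Cfsg.Agent.Lib.Helper80.CAI
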