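import Mathlib
import Cfsg.Agent.Lib.Helper50.CAI.Defs
import Cfsg.Agent.Lib.Helper80.CAI.Inj

/-!
# Project CAI (S2202), package [DC]: double counting of (involution, moved point)
-/

set_option autoImplicit false

namespace Cfsg.Agent.Lib.Helper80.CAI

open Cfsg.Agent.Lib.Helper50.CAI

universe u

/-- [DC] -/
theorem pkgDC (hB : PkgBasic.{u}) : PkgDC.{u} := by
  intro G _ _ hyp hle P Q hPQ
  classical
  have : Fintype G := Fintype.ofFinite G
  have : Fintype (Sylow 2 G) := Fintype.ofFinite _
  have : Fact (Nat.Prime 2) := ⟨Nat.prime_two⟩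
  have bP := hB hyp P
  obtain ⟨I, hI⟩ : ∃ I : Finset G, I = Finset.univ.filter (fun u : G => orderOf u = 2) :=
    ⟨_, rfl⟩
  have hImem : ∀ u, u ∈ I ↔ orderOf u = 2 := by
    intro u; rw [hI]; simp
  have hconv : ∀ P' Q' : Sylow 2 G, Nat.card {u : G // orderOf u = 2 ∧ u • P' = Q'} =
      (I.filter (fun u => u • P' = Q')).card := by
    intro P' Q'
    rw [Nat.card_eq_fintype_card, Fintype.card_subtype, hI, Finset.filter_filter]
  have hfixiff : ∀ (R : Sylow 2 G) (u : G), orderOf u = 2 →
      (u • R = R ↔ u ∈ (R : Subgroup G)) := by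
    intro R u hu
    constructor
    · intro h
      exact (hB hyp R).fix2 u h
        ⟨1, by rw [pow_one, pow_two]; exact sq_eq_one_of_order_two hu⟩
    · intro h
      exact Sylow.smul_eq_iff_mem_normalizer.mpr (Subgroup.le_normalizer h)
  have hdiag : ∀ R : Sylow 2 G, (I.filter (fun u => u • R = R)).card = mInv R := by
    intro R
    unfold mInv
    rw [Nat.card_eq_fintype_card, Fintype.card_subtype]
    congr 1
    ext u
    simp only [Finset.mem_filter, Finset.mem_univ, true_and, hImem]
    constructor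
    · rintro ⟨h1, h2⟩
      exact ⟨(hfixiff R u h1).mp h2, h1⟩
    · rintro ⟨h1, h2⟩
      exact ⟨h2, (hfixiff R u h2).mpr h1⟩
  have huniq : ∀ u ∈ I, (Finset.univ.filter (fun R : Sylow 2 G => u • R = R)).card = 1 := by
    intro u hu
    rw [hImem] at hu
    have hz : IsPGroup 2 (Subgroup.zpowers u) :=
      IsPGroup.of_card (n := 1) (by rw [Nat.card_zpowers, hu, pow_one])
    obtain ⟨R, hR⟩ := hz.exists_le_sylow
    have huR : u ∈ (R : Subgroup G) := hR (Subgroup.mem_zpowers u)
    rw [Finset.card_eq_one]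
    refine ⟨R, ?_⟩
    ext R'
    simp only [Finset.mem_filter, Finset.mem_univ, true_and, Finset.mem_singleton]
    constructor
    · intro h
      have huR' := (hfixiff R' u hu).mp h
      by_contra hne
      exact ne_one_of_order_two hu ((hB hyp R).ti R' hne u huR huR')
    · intro h
      rw [h]
      exact (hfixiff _ u hu).mpr huR
  have ha : I.card = Fintype.card (Sylow 2 G) * mInv P := by
    have h1 := Finset.sum_card_bipartiteAbove_eq_sum_card_bipartiteBelow (s := I)
      (t := (Finset.univ : Finset (Sylow 2 G))) (fun (u : G) (R : Sylow 2 G) => u • R = R)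
    have h2 : ∑ u ∈ I, (Finset.univ.filter (fun R : Sylow 2 G => u • R = R)).card = I.card := by
      rw [Finset.sum_congr rfl huniq, Finset.sum_const, smul_eq_mul, mul_one]
    have h3 : ∑ R ∈ (Finset.univ : Finset (Sylow 2 G)), (I.filter (fun u => u • R = R)).card =
        Fintype.card (Sylow 2 G) * mInv P := by
      rw [Finset.sum_congr rfl (fun R _ => (hdiag R).trans (bP.minv R)), Finset.sum_const,
        smul_eq_mul, Finset.card_univ]
    rw [← h2, ← h3]
    exact h1
  have hb : ∑ Q' ∈ (Finset.univ : Finset (Sylow 2 G)),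
      (I.filter (fun u => u • P = Q')).card = I.card :=
    (Finset.card_eq_sum_card_fiberwise (f := fun u : G => u • P) (s := I)
      (t := Finset.univ) (fun _ _ => Finset.mem_coe.mpr (Finset.mem_univ _))).symm
  have hsplit := Finset.add_sum_erase (Finset.univ : Finset (Sylow 2 G))
    (fun Q' => (I.filter (fun u => u • P = Q')).card) (Finset.mem_univ P)
  have hcardE : ((Finset.univ : Finset (Sylow 2 G)).erase P).card =
      Fintype.card (Sylow 2 G) - 1 := by
    rw [Finset.card_erase_of_mem (Finset.mem_univ P), Finset.card_univ]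
  have hsumm : ∑ _Q' ∈ (Finset.univ : Finset (Sylow 2 G)).erase P, mInv P =
      (Fintype.card (Sylow 2 G) - 1) * mInv P := by
    rw [Finset.sum_const, smul_eq_mul, hcardE]
  have hnpos : 0 < Fintype.card (Sylow 2 G) := Fintype.card_pos
  have hsumeq : ∑ Q' ∈ (Finset.univ : Finset (Sylow 2 G)).erase P,
      (I.filter (fun u => u • P = Q')).card =
      ∑ _Q' ∈ (Finset.univ : Finset (Sylow 2 G)).erase P, mInv P := by
    rw [hsumm]
    have h1 : (I.filter (fun u => u • P = P)).card +
        ∑ Q' ∈ (Finset.univ : Finset (Sylow 2 G)).erase P,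
          (I.filter (fun u => u • P = Q')).card = Fintype.card (Sylow 2 G) * mInv P := by
      rw [hsplit, hb, ha]
    rw [hdiag P] at h1
    obtain ⟨k, hk⟩ : ∃ k, Fintype.card (Sylow 2 G) = k + 1 :=
      ⟨Fintype.card (Sylow 2 G) - 1, by omega⟩
    rw [hk] at h1 ⊢
    have h2 : (k + 1) * mInv P = k * mInv P + mInv P := by ring
    rw [h2] at h1
    simp only [Nat.add_sub_cancel]
    omega
  have hterm := (Finset.sum_eq_sum_iff_of_le (fun Q' hQ' => by
    rw [← hconv]
    exact hle P Q' (Finset.ne_of_mem_erase hQ').symm)).mp hsumeq Q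
      (Finset.mem_erase.mpr ⟨hPQ.symm, Finset.mem_univ Q⟩)
  rw [hconv]
  exact hterm

end Cfsg.Agent.Lib.Helper80.CAI
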