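import Mathlib
import Cfsg.Agent.Lib.Helper50.CAI.Defs
import Cfsg.Agent.Lib.Helper80.CAI.Inj

/-!
# Project CAI (S2202), package [INV]: the two-point stabilizer `Dz P Q`
-/

set_option autoImplicit false

namespace Cfsg.Agent.Lib.Helper80.CAI

open Cfsg.Agent.Lib.Helper50.CAI

universe u

/-- [INV] -/
theorem pkgInv (hB : PkgBasic.{u}) : PkgInv.{u} := by
  intro G _ _ hyp hbti hswap hsemi P Q hPQ
  have : Fact (Nat.Prime 2) := ⟨Nat.prime_two⟩
  have bP := hB hyp P
  have bQ := hB hyp Q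
  have hodd := odd_Dz P Q bP bQ hPQ
  obtain ⟨⟨t, ht, htP⟩, hcount⟩ := hswap P Q hPQ
  have htt : t * t = 1 := sq_eq_one_of_order_two ht
  have htinv : t⁻¹ = t := inv_of_order_two ht
  have htriv : ∀ x ∈ Dz P Q, x ∈ Cz P → x = 1 := by
    intro x hxD hxC
    exact hsemi P Q hPQ x ((bP.memB x).mpr ⟨hxC, hodd x hxD⟩) ((mem_Dz_iff P Q x).mp hxD).2
  have hpos : 0 < mInv P := lt_of_lt_of_le (by norm_num) bP.three
  obtain ⟨⟨s0, hs0P, hs02⟩⟩ : Nonempty {t : G // t ∈ (P : Subgroup G) ∧ orderOf t = 2} :=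
    (Nat.card_pos_iff.mp hpos).1
  have hcs0 : ∀ c : G, c * s0 * c⁻¹ = s0 → c ∈ Cz P := by
    intro c h
    rw [← bP.cent s0 hs0P hs02, Subgroup.mem_centralizer_singleton_iff]
    calc c * s0 = c * s0 * c⁻¹ * c := by group
      _ = s0 * c := by rw [h]
  have hconj2 : ∀ g : G, orderOf (g * s0 * g⁻¹) = 2 := by
    intro g
    have h : g * s0 * g⁻¹ = MulAut.conj g s0 := by simp [MulAut.conj_apply]
    rw [h, MulEquiv.orderOf_eq]
    exact hs02
  let φ : ↥(Dz P Q) → {t : G // t ∈ (P : Subgroup G) ∧ orderOf t = 2} := fun d =>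
    ⟨d.1 * s0 * d.1⁻¹, by
      have h := conj_mem_smul d.1 P hs0P
      rw [((mem_Dz_iff P Q d.1).mp d.2).1] at h
      exact h, hconj2 d.1⟩
  have hφinj : Function.Injective φ := by
    rintro ⟨x, hxD⟩ ⟨y, hyD⟩ hxy
    have hxy' : x * s0 * x⁻¹ = y * s0 * y⁻¹ :=
      congrArg (fun q : {t : G // t ∈ (P : Subgroup G) ∧ orderOf t = 2} => q.1) hxy
    apply Subtype.ext
    show x = y
    have hc : x⁻¹ * y ∈ Cz P := hcs0 _ (by
      calc x⁻¹ * y * s0 * (x⁻¹ * y)⁻¹ = x⁻¹ * (y * s0 * y⁻¹) * x := by group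
        _ = x⁻¹ * (x * s0 * x⁻¹) * x := by rw [hxy']
        _ = s0 := by group)
    have h1 := htriv _ (Subgroup.mul_mem _ (Subgroup.inv_mem _ hxD) hyD) hc
    exact inv_mul_eq_one.mp h1
  have hle1 : Nat.card ↥(Dz P Q) ≤ mInv P := Nat.card_le_card_of_injective φ hφinj
  have hincl : ∀ t' : G, orderOf t' = 2 → t' • P = Q → ∀ d ∈ Dz P Q, t' * d * t' = d⁻¹ := by
    intro t' ht' ht'P d hd
    let ι : {x : G // x ∈ Dz P Q ∧ t' * x * t' = x⁻¹} → ↥(Dz P Q) := fun x => ⟨x.1, x.2.1⟩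
    have hι : Function.Injective ι := by
      intro a b hab
      exact Subtype.ext (congrArg (fun q : ↥(Dz P Q) => q.1) hab)
    have hbij := hι.bijective_of_nat_card_le (by rw [hcount t' ht' ht'P]; exact hle1)
    obtain ⟨x, hx⟩ := hbij.2 ⟨d, hd⟩
    have hxd : x.1 = d := congrArg (fun q : ↥(Dz P Q) => q.1) hx
    rw [← hxd]
    exact x.2.2
  have hcard : Nat.card ↥(Dz P Q) = mInv P := by
    apply le_antisymm hle1
    let ι : {x : G // x ∈ Dz P Q ∧ t * x * t = x⁻¹} → ↥(Dz P Q) := fun x => ⟨x.1, x.2.1⟩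
    have hι : Function.Injective ι := by
      intro a b hab
      exact Subtype.ext (congrArg (fun q : ↥(Dz P Q) => q.1) hab)
    have h := Nat.card_le_card_of_injective ι hι
    rw [hcount t ht htP] at h
    exact h
  have hφsurj : Function.Surjective φ :=
    (hφinj.bijective_of_nat_card_le (by rw [hcard]; exact le_of_eq rfl)).2
  refine ⟨hcard, hincl, htriv, ?_, ?_⟩
  · intro g hg
    have h1 : g * s0 * g⁻¹ ∈ (P : Subgroup G) := by
      have h := conj_mem_smul g P hs0P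
      rw [hg] at h
      exact h
    obtain ⟨d, hd⟩ := hφsurj ⟨g * s0 * g⁻¹, h1, hconj2 g⟩
    have hd' : d.1 * s0 * d.1⁻¹ = g * s0 * g⁻¹ :=
      congrArg (fun q : {t : G // t ∈ (P : Subgroup G) ∧ orderOf t = 2} => q.1) hd
    refine ⟨d.1, d.2, d.1⁻¹ * g, hcs0 _ ?_, by group⟩
    calc d.1⁻¹ * g * s0 * (d.1⁻¹ * g)⁻¹ = d.1⁻¹ * (g * s0 * g⁻¹) * d.1 := by group
      _ = d.1⁻¹ * (d.1 * s0 * d.1⁻¹) * d.1 := by rw [hd']
      _ = s0 := by group
  · intro d hd hd1 z hz hzd
    have hzg : IsPGroup 2 (Subgroup.zpowers z) :=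
      IsPGroup.of_card (n := 1) (by rw [Nat.card_zpowers, hz, pow_one])
    obtain ⟨R, hR⟩ := hzg.exists_le_sylow
    have hzR : z ∈ (R : Subgroup G) := hR (Subgroup.mem_zpowers z)
    have bR := hB hyp R
    have hdC : d ∈ Cz R := by
      rw [← bR.cent z hzR hz, Subgroup.mem_centralizer_singleton_iff]
      exact hzd.symm
    have hdB : d ∈ Bz R := (bR.memB d).mpr ⟨hdC, hodd d hd⟩
    have hinv := hincl t ht htP d hd
    have hdB' : d⁻¹ ∈ Bz (t • R) := by
      rw [← hinv]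
      refine (bR.conjB t (t * d * t)).mpr ?_
      have e : t⁻¹ * (t * d * t) * t = d := by
        rw [htinv]
        calc t * (t * d * t) * t = (t * t) * d * (t * t) := by group
          _ = d := by rw [htt, one_mul, mul_one]
      rw [e]
      exact hdB
    have htR : t • R = R := by
      by_contra hne
      have h := hbti R (t • R) (fun h => hne h.symm) d⁻¹ (Subgroup.inv_mem _ hdB) hdB'
      exact hd1 (inv_eq_one.mp h)
    have htR' : t ∈ (R : Subgroup G) :=
      bR.fix2 t htR ⟨1, by rw [pow_one, pow_two]; exact htt⟩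
    have htd : t * d = d * t := (Subgroup.mem_centralizer_iff.mp hdC) t htR'
    have h1 : t * d * t = d := by rw [htd, mul_assoc, htt, mul_one]
    rw [hinv] at h1
    have hdd : d * d = 1 := by
      calc d * d = d⁻¹ * d := by rw [h1]
        _ = 1 := inv_mul_cancel d
    have hdvd : orderOf d ∣ 2 := orderOf_dvd_of_pow_eq_one (by rw [pow_two]; exact hdd)
    rcases (Nat.dvd_prime Nat.prime_two).mp hdvd with h | h
    · exact hd1 (orderOf_eq_one_iff.mp h)
    · have h2 := hodd d hd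
      rw [h] at h2
      exact absurd h2 (by decide)

end Cfsg.Agent.Lib.Helper80.CAI
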